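import Cfsg.Agent.Lib.Helper7.TblSub
import Cfsg.Agent.Lib.Helper7.M12Chain

/-!
# Explicit elements of `H12 ≅ M12` for the computation of its Schur multiplier

AUTO-GENERATED (helper57, /tmp/m12/gen_data.py); everything is re-checked here.
`a, b, c` are involutions generating a Sylow 2-subgroup `P` (order 64) with
`(cb)² = ((ca)²)² = (c(ba)²)² = 1`; `a` is of class 2B and `b` of class 2A; `g_*` conjugate `a` or `b` to the
named involution; `e1, e2, e3` generate a 2B-pure elementary abelian group of order 8; `b, y` generate a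
2A-pure four-group; `a3, b3` generate a Sylow 3-subgroup, `t3` inverting both and `t3p` inverting their
commutator; `e5, e11` have orders 5, 11.
-/

set_option autoImplicit false

namespace Cfsg.Agent.Lib.Helper57.M12Mult
open Cfsg Cfsg.Agent.Lib.Helper7 Cfsg.Agent.Lib.Helper7.Tbl

/-- Straight-line program run on top of the chain entries. -/
def prog : List (ℕ × ℕ) := [(369, 350), (436, 337), (437, 291), (349, 350), (439, 305), (440, 297), (441, 280), (370, 352), (443, 337), (444, 296), (445, 275), (369, 338), (447, 317), (448, 297), (449, 275), (356, 350), (451, 309), (452, 294), (453, 292), (369, 338), (455, 318), (456, 278), (357, 338), (458, 309), (459, 298), (460, 281), (357, 354), (462, 317), (463, 291), (349, 354), (465, 322), (466, 291), (338, 318), (468, 274), (368, 354), (470, 319), (471, 296), (369, 354), (473, 337), (474, 294), (475, 276), (350, 308), (477, 291), (478, 279), (367, 351), (480, 317), (481, 306), (482, 274), (369, 338), (484, 318), (485, 278), (367, 351),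 (487, 337), (488, 298), (489, 279), (357, 338), (491, 309), (492, 298), (493, 281), (370, 352), (495, 337), (496, 296), (497, 275), (369, 338), (499, 317), (500, 297), (501, 275), (356, 350), (503, 309), (504, 294), (505, 292), (368, 351), (507, 319), (508, 291), (509, 279), (369, 336), (511, 320), (512, 291), (513, 273), (357, 352), (515, 319), (516, 294), (517, 276), (367, 355), (519, 294), (520, 274), (349, 351), (522, 294), (523, 281), (337, 297)]

/-- All tables. -/
def allT : List (List ℕ) := runT prog chainT2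

/-- All permutations. -/
noncomputable def allP : List (Equiv.Perm GolayPt) := runP prog chainP2

theorem all_match : List.Forall₂ Matches allP allT :=
  forall₂_runP_runT _ _ _ chain2_match

theorem allP_mem_genH (k : ℕ) : allP.getD k 1 ∈ genH :=
  getD_mem_of_forall (runP_mem genH prog chainP2
    (runP_mem genH chainProg2 chainP chainP_mem_genH')) k

theorem mem_H12_of_tbl {σ : Equiv.Perm GolayPt} {t : List ℕ} (hM : σ ∈ M24) (hm : Matches σ t)
    (hd : mapsInto t d0Mask d0Mask = true) : σ ∈ H12 :=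
  mem_stabM24.mpr ⟨hM, smul_d0_of_mapsInto hm hd⟩

instance instFiniteH12 : Finite ↥H12 := Nat.finite_of_card_ne_zero (by rw [card_H12]; norm_num)

/-- Table of `a`. -/
def aT : List ℕ := [14, 12, 9, 3, 22, 11, 6, 7, 15, 2, 17, 5, 1, 13, 0, 8, 21, 10, 18, 19, 20, 16, 4, 23]

theorem tbl_a : allT.getD 438 idT = aT := by decide +kernel

theorem matches_a : Matches (allP.getD 438 1) aT := by
  rw [← tbl_a]; exact forall₂_getD all_match matches_one _

/-- The element `a` of `H12`. -/
noncomputable def a : ↥H12 :=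
  ⟨allP.getD 438 1, mem_H12_of_tbl (genH_le_M24 (allP_mem_genH 438)) matches_a (by decide +kernel)⟩

theorem m_a : MatchS a aT := matches_a

/-- Table of `b`. -/
def bT : List ℕ := [8, 23, 9, 7, 13, 10, 15, 3, 0, 2, 5, 19, 14, 4, 12, 6, 20, 21, 22, 11, 16, 17, 18, 1]

theorem tbl_b : allT.getD 442 idT = bT := by decide +kernel

theorem matches_b : Matches (allP.getD 442 1) bT := by
  rw [← tbl_b]; exact forall₂_getD all_match matches_one _

/-- The element `b` of `H12`. -/
noncomputable def b : ↥H12 :=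
  ⟨allP.getD 442 1, mem_H12_of_tbl (genH_le_M24 (allP_mem_genH 442)) matches_b (by decide +kernel)⟩

theorem m_b : MatchS b bT := matches_b

/-- Table of `c`. -/
def cT : List ℕ := [23, 8, 7, 9, 18, 11, 14, 2, 1, 3, 19, 5, 15, 22, 6, 12, 21, 20, 4, 10, 17, 16, 13, 0]

theorem tbl_c : allT.getD 446 idT = cT := by decide +kernel

theorem matches_c : Matches (allP.getD 446 1) cT := by
  rw [← tbl_c]; exact forall₂_getD all_match matches_one _

/-- The element `c` of `H12`. -/
noncomputable def c : ↥H12 :=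
  ⟨allP.getD 446 1, mem_H12_of_tbl (genH_le_M24 (allP_mem_genH 446)) matches_c (by decide +kernel)⟩

theorem m_c : MatchS c cT := matches_c

/-- Table of `g_c`. -/
def g_cT : List ℕ := [23, 6, 9, 12, 11, 16, 8, 15, 0, 3, 21, 18, 2, 5, 7, 1, 17, 19, 13, 4, 20, 10, 22, 14]

theorem tbl_g_c : allT.getD 450 idT = g_cT := by decide +kernel

theorem matches_g_c : Matches (allP.getD 450 1) g_cT := by
  rw [← tbl_g_c]; exact forall₂_getD all_match matches_one _

/-- The element `g_c` of `H12`. -/
noncomputable def g_c : ↥H12 :=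
  ⟨allP.getD 450 1, mem_H12_of_tbl (genH_le_M24 (allP_mem_genH 450)) matches_g_c (by decide +kernel)⟩

theorem m_g_c : MatchS g_c g_cT := matches_g_c

/-- Table of `g_cb`. -/
def g_cbT : List ℕ := [8, 15, 6, 0, 21, 13, 3, 1, 23, 12, 18, 4, 9, 20, 7, 2, 17, 19, 10, 22, 16, 5, 11, 14]

theorem tbl_g_cb : allT.getD 454 idT = g_cbT := by decide +kernel

theorem matches_g_cb : Matches (allP.getD 454 1) g_cbT := by
  rw [← tbl_g_cb]; exact forall₂_getD all_match matches_one _

/-- The element `g_cb` of `H12`. -/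
noncomputable def g_cb : ↥H12 :=
  ⟨allP.getD 454 1, mem_H12_of_tbl (genH_le_M24 (allP_mem_genH 454)) matches_g_cb (by decide +kernel)⟩

theorem m_g_cb : MatchS g_cb g_cbT := matches_g_cb

/-- Table of `g_ca2`. -/
def g_ca2T : List ℕ := [6, 2, 0, 8, 19, 22, 1, 12, 7, 14, 10, 4, 9, 11, 23, 3, 18, 17, 16, 5, 21, 13, 20, 15]

theorem tbl_g_ca2 : allT.getD 457 idT = g_ca2T := by decide +kernel

theorem matches_g_ca2 : Matches (allP.getD 457 1) g_ca2T := by
  rw [← tbl_g_ca2]; exact forall₂_getD all_match matches_one _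

/-- The element `g_ca2` of `H12`. -/
noncomputable def g_ca2 : ↥H12 :=
  ⟨allP.getD 457 1, mem_H12_of_tbl (genH_le_M24 (allP_mem_genH 457)) matches_g_ca2 (by decide +kernel)⟩

theorem m_g_ca2 : MatchS g_ca2 g_ca2T := matches_g_ca2

/-- Table of `g_cr2`. -/
def g_cr2T : List ℕ := [8, 3, 7, 15, 10, 13, 14, 0, 6, 2, 22, 4, 9, 5, 12, 23, 16, 18, 19, 21, 20, 11, 17, 1]

theorem tbl_g_cr2 : allT.getD 461 idT = g_cr2T := by decide +kernel

theorem matches_g_cr2 : Matches (allP.getD 461 1) g_cr2T := by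
  rw [← tbl_g_cr2]; exact forall₂_getD all_match matches_one _

/-- The element `g_cr2` of `H12`. -/
noncomputable def g_cr2 : ↥H12 :=
  ⟨allP.getD 461 1, mem_H12_of_tbl (genH_le_M24 (allP_mem_genH 461)) matches_g_cr2 (by decide +kernel)⟩

theorem m_g_cr2 : MatchS g_cr2 g_cr2T := matches_g_cr2

/-- Table of `e1`. -/
def e1T : List ℕ := [14, 15, 7, 9, 13, 21, 6, 2, 8, 3, 10, 11, 12, 4, 0, 1, 16, 17, 22, 20, 19, 5, 18, 23]

theorem tbl_e1 : allT.getD 464 idT = e1T := by decide +kernel

theorem matches_e1 : Matches (allP.getD 464 1) e1T := by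
  rw [← tbl_e1]; exact forall₂_getD all_match matches_one _

/-- The element `e1` of `H12`. -/
noncomputable def e1 : ↥H12 :=
  ⟨allP.getD 464 1, mem_H12_of_tbl (genH_le_M24 (allP_mem_genH 464)) matches_e1 (by decide +kernel)⟩

theorem m_e1 : MatchS e1 e1T := matches_e1

/-- Table of `e2`. -/
def e2T : List ℕ := [14, 1, 3, 2, 18, 5, 6, 9, 12, 7, 10, 16, 8, 22, 0, 15, 11, 17, 4, 20, 19, 21, 13, 23]

theorem tbl_e2 : allT.getD 467 idT = e2T := by decide +kernel

theorem matches_e2 : Matches (allP.getD 467 1) e2T := by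
  rw [← tbl_e2]; exact forall₂_getD all_match matches_one _

/-- The element `e2` of `H12`. -/
noncomputable def e2 : ↥H12 :=
  ⟨allP.getD 467 1, mem_H12_of_tbl (genH_le_M24 (allP_mem_genH 467)) matches_e2 (by decide +kernel)⟩

theorem m_e2 : MatchS e2 e2T := matches_e2

/-- Table of `e3`. -/
def e3T : List ℕ := [0, 15, 3, 2, 18, 21, 23, 9, 8, 7, 17, 11, 12, 22, 14, 1, 16, 10, 4, 19, 20, 5, 13, 6]

theorem tbl_e3 : allT.getD 469 idT = e3T := by decide +kernel

theorem matches_e3 : Matches (allP.getD 469 1) e3T := by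
  rw [← tbl_e3]; exact forall₂_getD all_match matches_one _

/-- The element `e3` of `H12`. -/
noncomputable def e3 : ↥H12 :=
  ⟨allP.getD 469 1, mem_H12_of_tbl (genH_le_M24 (allP_mem_genH 469)) matches_e3 (by decide +kernel)⟩

theorem m_e3 : MatchS e3 e3T := matches_e3

/-- Table of `g_e1`. -/
def g_e1T : List ℕ := [9, 0, 15, 6, 22, 5, 8, 12, 7, 1, 20, 21, 14, 11, 3, 2, 4, 19, 17, 16, 10, 13, 18, 23]

theorem tbl_g_e1 : allT.getD 472 idT = g_e1T := by decide +kernel

theorem matches_g_e1 : Matches (allP.getD 472 1) g_e1T := by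
  rw [← tbl_g_e1]; exact forall₂_getD all_match matches_one _

/-- The element `g_e1` of `H12`. -/
noncomputable def g_e1 : ↥H12 :=
  ⟨allP.getD 472 1, mem_H12_of_tbl (genH_le_M24 (allP_mem_genH 472)) matches_g_e1 (by decide +kernel)⟩

theorem m_g_e1 : MatchS g_e1 g_e1T := matches_g_e1

/-- Table of `g_e2`. -/
def g_e2T : List ℕ := [9, 12, 3, 23, 22, 20, 1, 6, 14, 2, 18, 19, 8, 5, 7, 0, 11, 4, 21, 10, 17, 16, 13, 15]

theorem tbl_g_e2 : allT.getD 476 idT = g_e2T := by decide +kernel

theorem matches_g_e2 : Matches (allP.getD 476 1) g_e2T := by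
  rw [← tbl_g_e2]; exact forall₂_getD all_match matches_one _

/-- The element `g_e2` of `H12`. -/
noncomputable def g_e2 : ↥H12 :=
  ⟨allP.getD 476 1, mem_H12_of_tbl (genH_le_M24 (allP_mem_genH 476)) matches_g_e2 (by decide +kernel)⟩

theorem m_g_e2 : MatchS g_e2 g_e2T := matches_g_e2

/-- Table of `g_e3`. -/
def g_e3T : List ℕ := [1, 9, 23, 12, 10, 18, 0, 8, 2, 6, 21, 4, 7, 16, 15, 3, 13, 5, 11, 19, 20, 22, 17, 14]

theorem tbl_g_e3 : allT.getD 479 idT = g_e3T := by decide +kernel

theorem matches_g_e3 : Matches (allP.getD 479 1) g_e3T := by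
  rw [← tbl_g_e3]; exact forall₂_getD all_match matches_one _

/-- The element `g_e3` of `H12`. -/
noncomputable def g_e3 : ↥H12 :=
  ⟨allP.getD 479 1, mem_H12_of_tbl (genH_le_M24 (allP_mem_genH 479)) matches_g_e3 (by decide +kernel)⟩

theorem m_g_e3 : MatchS g_e3 g_e3T := matches_g_e3

/-- Table of `g_e21`. -/
def g_e21T : List ℕ := [15, 2, 7, 0, 16, 18, 23, 6, 12, 3, 4, 13, 9, 19, 1, 8, 21, 22, 10, 20, 17, 5, 11, 14]

theorem tbl_g_e21 : allT.getD 483 idT = g_e21T := by decide +kernel

theorem matches_g_e21 : Matches (allP.getD 483 1) g_e21T := by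
  rw [← tbl_g_e21]; exact forall₂_getD all_match matches_one _

/-- The element `g_e21` of `H12`. -/
noncomputable def g_e21 : ↥H12 :=
  ⟨allP.getD 483 1, mem_H12_of_tbl (genH_le_M24 (allP_mem_genH 483)) matches_g_e21 (by decide +kernel)⟩

theorem m_g_e21 : MatchS g_e21 g_e21T := matches_g_e21

/-- Table of `g_e31`. -/
def g_e31T : List ℕ := [6, 2, 0, 8, 19, 22, 1, 12, 7, 14, 10, 4, 9, 11, 23, 3, 18, 17, 16, 5, 21, 13, 20, 15]

theorem tbl_g_e31 : allT.getD 486 idT = g_e31T := by decide +kernel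

theorem matches_g_e31 : Matches (allP.getD 486 1) g_e31T := by
  rw [← tbl_g_e31]; exact forall₂_getD all_match matches_one _

/-- The element `g_e31` of `H12`. -/
noncomputable def g_e31 : ↥H12 :=
  ⟨allP.getD 486 1, mem_H12_of_tbl (genH_le_M24 (allP_mem_genH 486)) matches_g_e31 (by decide +kernel)⟩

theorem m_g_e31 : MatchS g_e31 g_e31T := matches_g_e31

/-- Table of `g_e23`. -/
def g_e23T : List ℕ := [0, 15, 23, 9, 20, 21, 3, 2, 8, 6, 10, 5, 1, 22, 14, 12, 16, 17, 4, 13, 18, 11, 19, 7]

theorem tbl_g_e23 : allT.getD 490 idT = g_e23T := by decide +kernel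

theorem matches_g_e23 : Matches (allP.getD 490 1) g_e23T := by
  rw [← tbl_g_e23]; exact forall₂_getD all_match matches_one _

/-- The element `g_e23` of `H12`. -/
noncomputable def g_e23 : ↥H12 :=
  ⟨allP.getD 490 1, mem_H12_of_tbl (genH_le_M24 (allP_mem_genH 490)) matches_g_e23 (by decide +kernel)⟩

theorem m_g_e23 : MatchS g_e23 g_e23T := matches_g_e23

/-- Table of `g_e231`. -/
def g_e231T : List ℕ := [8, 3, 7, 15, 10, 13, 14, 0, 6, 2, 22, 4, 9, 5, 12, 23, 16, 18, 19, 21, 20, 11, 17, 1]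

theorem tbl_g_e231 : allT.getD 494 idT = g_e231T := by decide +kernel

theorem matches_g_e231 : Matches (allP.getD 494 1) g_e231T := by
  rw [← tbl_g_e231]; exact forall₂_getD all_match matches_one _

/-- The element `g_e231` of `H12`. -/
noncomputable def g_e231 : ↥H12 :=
  ⟨allP.getD 494 1, mem_H12_of_tbl (genH_le_M24 (allP_mem_genH 494)) matches_g_e231 (by decide +kernel)⟩

theorem m_g_e231 : MatchS g_e231 g_e231T := matches_g_e231

/-- Table of `y`. -/
def yT : List ℕ := [23, 8, 7, 9, 18, 11, 14, 2, 1, 3, 19, 5, 15, 22, 6, 12, 21, 20, 4, 10, 17, 16, 13, 0]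

theorem tbl_y : allT.getD 498 idT = yT := by decide +kernel

theorem matches_y : Matches (allP.getD 498 1) yT := by
  rw [← tbl_y]; exact forall₂_getD all_match matches_one _

/-- The element `y` of `H12`. -/
noncomputable def y : ↥H12 :=
  ⟨allP.getD 498 1, mem_H12_of_tbl (genH_le_M24 (allP_mem_genH 498)) matches_y (by decide +kernel)⟩

theorem m_y : MatchS y yT := matches_y

/-- Table of `g_y`. -/
def g_yT : List ℕ := [23, 6, 9, 12, 11, 16, 8, 15, 0, 3, 21, 18, 2, 5, 7, 1, 17, 19, 13, 4, 20, 10, 22, 14]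

theorem tbl_g_y : allT.getD 502 idT = g_yT := by decide +kernel

theorem matches_g_y : Matches (allP.getD 502 1) g_yT := by
  rw [← tbl_g_y]; exact forall₂_getD all_match matches_one _

/-- The element `g_y` of `H12`. -/
noncomputable def g_y : ↥H12 :=
  ⟨allP.getD 502 1, mem_H12_of_tbl (genH_le_M24 (allP_mem_genH 502)) matches_g_y (by decide +kernel)⟩

theorem m_g_y : MatchS g_y g_yT := matches_g_y

/-- Table of `g_by`. -/
def g_byT : List ℕ := [8, 15, 6, 0, 21, 13, 3, 1, 23, 12, 18, 4, 9, 20, 7, 2, 17, 19, 10, 22, 16, 5, 11, 14]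

theorem tbl_g_by : allT.getD 506 idT = g_byT := by decide +kernel

theorem matches_g_by : Matches (allP.getD 506 1) g_byT := by
  rw [← tbl_g_by]; exact forall₂_getD all_match matches_one _

/-- The element `g_by` of `H12`. -/
noncomputable def g_by : ↥H12 :=
  ⟨allP.getD 506 1, mem_H12_of_tbl (genH_le_M24 (allP_mem_genH 506)) matches_g_by (by decide +kernel)⟩

theorem m_g_by : MatchS g_by g_byT := matches_g_by

/-- Table of `a3`. -/
def a3T : List ℕ := [8, 1, 23, 9, 10, 11, 0, 7, 6, 14, 21, 19, 12, 18, 3, 2, 16, 17, 20, 5, 13, 4, 22, 15]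

theorem tbl_a3 : allT.getD 510 idT = a3T := by decide +kernel

theorem matches_a3 : Matches (allP.getD 510 1) a3T := by
  rw [← tbl_a3]; exact forall₂_getD all_match matches_one _

/-- The element `a3` of `H12`. -/
noncomputable def a3 : ↥H12 :=
  ⟨allP.getD 510 1, mem_H12_of_tbl (genH_le_M24 (allP_mem_genH 510)) matches_a3 (by decide +kernel)⟩

theorem m_a3 : MatchS a3 a3T := matches_a3

/-- Table of `b3`. -/
def b3T : List ℕ := [8, 12, 0, 6, 22, 4, 14, 1, 2, 23, 16, 21, 7, 18, 3, 9, 19, 11, 20, 10, 13, 17, 5, 15]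

theorem tbl_b3 : allT.getD 514 idT = b3T := by decide +kernel

theorem matches_b3 : Matches (allP.getD 514 1) b3T := by
  rw [← tbl_b3]; exact forall₂_getD all_match matches_one _

/-- The element `b3` of `H12`. -/
noncomputable def b3 : ↥H12 :=
  ⟨allP.getD 514 1, mem_H12_of_tbl (genH_le_M24 (allP_mem_genH 514)) matches_b3 (by decide +kernel)⟩

theorem m_b3 : MatchS b3 b3T := matches_b3

/-- Table of `t3`. -/
def t3T : List ℕ := [3, 7, 6, 23, 11, 21, 9, 1, 14, 2, 5, 10, 12, 13, 15, 0, 22, 16, 20, 4, 18, 19, 17, 8]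

theorem tbl_t3 : allT.getD 518 idT = t3T := by decide +kernel

theorem matches_t3 : Matches (allP.getD 518 1) t3T := by
  rw [← tbl_t3]; exact forall₂_getD all_match matches_one _

/-- The element `t3` of `H12`. -/
noncomputable def t3 : ↥H12 :=
  ⟨allP.getD 518 1, mem_H12_of_tbl (genH_le_M24 (allP_mem_genH 518)) matches_t3 (by decide +kernel)⟩

theorem m_t3 : MatchS t3 t3T := matches_t3

/-- Table of `t3p`. -/
def t3pT : List ℕ := [6, 12, 0, 8, 16, 10, 23, 1, 3, 14, 22, 21, 7, 18, 2, 15, 11, 19, 13, 4, 20, 17, 5, 9]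

theorem tbl_t3p : allT.getD 521 idT = t3pT := by decide +kernel

theorem matches_t3p : Matches (allP.getD 521 1) t3pT := by
  rw [← tbl_t3p]; exact forall₂_getD all_match matches_one _

/-- The element `t3p` of `H12`. -/
noncomputable def t3p : ↥H12 :=
  ⟨allP.getD 521 1, mem_H12_of_tbl (genH_le_M24 (allP_mem_genH 521)) matches_t3p (by decide +kernel)⟩

theorem m_t3p : MatchS t3p t3pT := matches_t3p

/-- Table of `e5`. -/
def e5T : List ℕ := [0, 12, 9, 8, 18, 10, 3, 7, 15, 1, 4, 20, 14, 11, 2, 23, 16, 19, 22, 13, 17, 21, 5, 6]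

theorem tbl_e5 : allT.getD 524 idT = e5T := by decide +kernel

theorem matches_e5 : Matches (allP.getD 524 1) e5T := by
  rw [← tbl_e5]; exact forall₂_getD all_match matches_one _

/-- The element `e5` of `H12`. -/
noncomputable def e5 : ↥H12 :=
  ⟨allP.getD 524 1, mem_H12_of_tbl (genH_le_M24 (allP_mem_genH 524)) matches_e5 (by decide +kernel)⟩

theorem m_e5 : MatchS e5 e5T := matches_e5

/-- Table of `e11`. -/
def e11T : List ℕ := [15, 14, 1, 7, 4, 19, 9, 12, 0, 8, 21, 16, 6, 17, 3, 2, 22, 10, 11, 18, 13, 5, 20, 23]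

theorem tbl_e11 : allT.getD 525 idT = e11T := by decide +kernel

theorem matches_e11 : Matches (allP.getD 525 1) e11T := by
  rw [← tbl_e11]; exact forall₂_getD all_match matches_one _

/-- The element `e11` of `H12`. -/
noncomputable def e11 : ↥H12 :=
  ⟨allP.getD 525 1, mem_H12_of_tbl (genH_le_M24 (allP_mem_genH 525)) matches_e11 (by decide +kernel)⟩

theorem m_e11 : MatchS e11 e11T := matches_e11

end Cfsg.Agent.Lib.Helper57.M12Mult
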