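import Cfsg.Agent.Lib.Helper57.M12Mult.CoverData
import Cfsg.Agent.Lib.Helper57.M12Mult.Data

/-!
# The double cover `2.M12` as a group of pairs

`Γ` is the subgroup of `H12 × Perm GolayPt` generated by the pairs (strong generator of `H12`, monomial lift);
here the second factor permutes the 24 signed coordinates of the extended ternary Golay code, labelled by the
points `pt 0, …, pt 23`.  The projection onto `H12` is surjective with kernel `{1, (1, ν)}`, `ν` the negation.
-/

set_option autoImplicit false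

namespace Cfsg.Agent.Lib.Helper57.M12Mult
open Cfsg Cfsg.Agent.Lib.Helper7 Cfsg.Agent.Lib.Helper7.Tbl

/-! ### Permutations from tables -/

/-- `t` and `u` are mutually inverse tables on `[0, 24)`. -/
def tblOK (t u : List ℕ) : Bool :=
  (List.range 24).all fun i => decide (t.getD i 0 < 24) && decide (u.getD i 0 < 24) &&
    (u.getD (t.getD i 0) 0 == i) && (t.getD (u.getD i 0) 0 == i)

theorem tblOK_spec {t u : List ℕ} (h : tblOK t u = true) {i : ℕ} (hi : i < 24) :
    t.getD i 0 < 24 ∧ u.getD i 0 < 24 ∧ u.getD (t.getD i 0) 0 = i ∧ t.getD (u.getD i 0) 0 = i := by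
  simp only [tblOK, List.all_eq_true, List.mem_range, Bool.and_eq_true, decide_eq_true_eq,
    beq_iff_eq] at h
  obtain ⟨⟨⟨h1, h2⟩, h3⟩, h4⟩ := h i hi
  exact ⟨h1, h2, h3, h4⟩

/-- The permutation with table `t` (and inverse table `u`). -/
def permOfTbl (t u : List ℕ) (h : tblOK t u = true) : Equiv.Perm GolayPt where
  toFun p := pt (t.getD (idx p) 0)
  invFun p := pt (u.getD (idx p) 0)
  left_inv p := by
    obtain ⟨h1, _, h3, _⟩ := tblOK_spec h (idx_lt p)
    show pt (u.getD (idx (pt (t.getD (idx p) 0))) 0) = p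
    rw [idx_pt h1, h3, pt_idx]
  right_inv p := by
    obtain ⟨_, h2, _, h4⟩ := tblOK_spec h (idx_lt p)
    show pt (t.getD (idx (pt (u.getD (idx p) 0))) 0) = p
    rw [idx_pt h2, h4, pt_idx]

theorem matches_permOfTbl (t u : List ℕ) (h : tblOK t u = true) : Matches (permOfTbl t u h) t := by
  intro p
  show idx (pt (t.getD (idx p) 0)) = _
  rw [idx_pt (tblOK_spec h (idx_lt p)).1]

/-- The negation. -/
def nuP : Equiv.Perm GolayPt := permOfTbl nuT nuT (by decide)

theorem matches_nuP : Matches nuP nuT := matches_permOfTbl _ _ _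

/-- Table of the lift of `vP i q`. -/
def hatT (i q : ℕ) : List ℕ := (hatTbl.getD i []).getD q idT

/-- Table of its inverse. -/
def hatU (i q : ℕ) : List ℕ := (hatInvTbl.getD i []).getD q idT

/-- The lift of `vP i q`. -/
def hatP (i q : ℕ) : Equiv.Perm GolayPt :=
  if h : tblOK (hatT i q) (hatU i q) = true then permOfTbl (hatT i q) (hatU i q) h else 1

theorem matches_hatP {i q : ℕ} (h : tblOK (hatT i q) (hatU i q) = true) :
    Matches (hatP i q) (hatT i q) := by
  unfold hatP
  rw [dif_pos h]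
  exact matches_permOfTbl _ _ _

/-! ### The invariant -/

/-- The image of a mask under a table. -/
def mapMaskT (t : List ℕ) (m : ℕ) : ℕ :=
  (List.range 24).foldl (fun acc j => if m.testBit j then acc ||| (1 <<< t.getD j 0) else acc) 0

/-- The invariant of the pairs in `Γ`: the second component commutes with the negation, permutes the signed
dodecads, and induces on the coordinates the action of the first component on `d0`. -/
def Inv (x : ↥H12 × Equiv.Perm GolayPt) : Prop :=
  x.2 * nuP = nuP * x.2 ∧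
  (∀ m ∈ Wl, ∃ m' ∈ Wl, ∀ p : GolayPt, m'.testBit (idx (x.2 p)) = m.testBit (idx p)) ∧
  ∀ j < 24, Dl.getD (idx (x.2 (pt j)) % 12) 0 =
    idx ((x.1 : Equiv.Perm GolayPt) (pt (Dl.getD (j % 12) 0)))

theorem Dl_lt : ∀ j, Dl.getD (j % 12) 0 < 24 := by
  intro j
  have : j % 12 < 12 := Nat.mod_lt _ (by norm_num)
  generalize j % 12 = k at this
  revert k; decide

theorem inv_one : Inv 1 := by
  refine ⟨by simp, ?_, ?_⟩
  · intro m hm
    exact ⟨m, hm, fun p => rfl⟩
  · intro j hj
    show Dl.getD (idx (pt j) % 12) 0 = idx (pt (Dl.getD (j % 12) 0))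
    rw [idx_pt hj, idx_pt (Dl_lt j)]

theorem inv_mul {x y : ↥H12 × Equiv.Perm GolayPt} (hx : Inv x) (hy : Inv y) : Inv (x * y) := by
  obtain ⟨hx1, hx2, hx3⟩ := hx
  obtain ⟨hy1, hy2, hy3⟩ := hy
  refine ⟨?_, ?_, ?_⟩
  · show x.2 * y.2 * nuP = nuP * (x.2 * y.2)
    rw [mul_assoc, hy1, ← mul_assoc, hx1, mul_assoc]
  · intro m hm
    obtain ⟨m1, hm1, h1⟩ := hy2 m hm
    obtain ⟨m2, hm2, h2⟩ := hx2 m1 hm1
    refine ⟨m2, hm2, fun p => ?_⟩
    show m2.testBit (idx (x.2 (y.2 p))) = _
    rw [h2, h1]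
  · intro j hj
    show Dl.getD (idx (x.2 (y.2 (pt j))) % 12) 0 =
      idx ((x.1 : Equiv.Perm GolayPt) ((y.1 : Equiv.Perm GolayPt) (pt (Dl.getD (j % 12) 0))))
    have h1 := hy3 j hj
    have h2 := hx3 (idx (y.2 (pt j))) (idx_lt _)
    rw [pt_idx] at h2
    rw [h2, h1, pt_idx]

theorem inv_pow {x : ↥H12 × Equiv.Perm GolayPt} (hx : Inv x) (n : ℕ) : Inv (x ^ n) := by
  induction n with
  | zero => rw [pow_zero]; exact inv_one
  | succ n ih => rw [pow_succ]; exact inv_mul ih hx

theorem inv_inv' {x : ↥H12 × Equiv.Perm GolayPt} (hx : Inv x) : Inv x⁻¹ := by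
  have h1 : x⁻¹ = x ^ (orderOf x - 1) := by
    have hpos : 0 < orderOf x := orderOf_pos x
    apply inv_eq_of_mul_eq_one_right
    rw [← pow_succ', Nat.sub_add_cancel hpos, pow_orderOf_eq_one]
  rw [h1]; exact inv_pow hx _

/-! ### Checking the invariant on tables -/

theorem nuT_getD : ∀ k < 24, nuT.getD k 0 = (k + 12) % 24 := by decide

/-- The table `t` (with inverse `u`) is a monomial automorphism of the code inducing `vt` on `d0`. -/
def pairOK (vt t u : List ℕ) : Bool :=
  tblOK t u && teq (compT t nuT) (compT nuT t) &&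
  (Wl.all fun m => Wl.contains (mapMaskT t m) &&
    (List.range 24).all fun j => (mapMaskT t m).testBit (t.getD j 0) == m.testBit j) &&
  (List.range 24).all fun j => Dl.getD (t.getD j 0 % 12) 0 == vt.getD (Dl.getD (j % 12) 0) 0

theorem tblOK_of_pairOK {vt t u : List ℕ} (h : pairOK vt t u = true) : tblOK t u = true := by
  simp only [pairOK, Bool.and_eq_true] at h
  exact h.1.1.1

theorem inv_of_pairOK {g : ↥H12} {vt t u : List ℕ} (hg : MatchS g vt) (h : pairOK vt t u = true)
    (ht : tblOK t u = true) : Inv (g, permOfTbl t u ht) := by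
  simp only [pairOK, Bool.and_eq_true, List.all_eq_true, List.mem_range, beq_iff_eq] at h
  obtain ⟨⟨⟨_, h1⟩, h2⟩, h3⟩ := h
  have hm := matches_permOfTbl t u ht
  refine ⟨?_, ?_, ?_⟩
  · exact eq_of_matches (matches_mul hm matches_nuP) (matches_mul matches_nuP hm) (teq_spec h1)
  · intro m hmB
    obtain ⟨hc, hb⟩ := h2 m hmB
    refine ⟨mapMaskT t m, by simpa using hc, fun p => ?_⟩
    show (mapMaskT t m).testBit (idx (permOfTbl t u ht p)) = _
    rw [hm p]
    exact hb _ (idx_lt p)
  · intro j hj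
    show Dl.getD (idx (permOfTbl t u ht (pt j)) % 12) 0 =
      idx ((g : Equiv.Perm GolayPt) (pt (Dl.getD (j % 12) 0)))
    rw [hm (pt j), idx_pt hj, hg (pt _), idx_pt (Dl_lt j)]
    exact h3 j hj

/-! ### The generators -/

/-- Table of `vP i q`. -/
def vT (i q : ℕ) : List ℕ := chainT2.getD ((lookupM12.getD i []).getD q 0) idT

theorem matches_vP (i q : ℕ) : Matches (vP i q) (vT i q) :=
  forall₂_getD chain2_match matches_one _

/-- The check for the generators. -/
def genOK (i q : ℕ) : Bool := pairOK (vT i q) (hatT i q) (hatU i q)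

set_option maxRecDepth 100000 in
theorem genOK_all : ∀ i < 5, ∀ q < 24, okM12 i q = true → genOK i q = true := by decide +kernel

/-- The lifted generators. -/
noncomputable def gen (i q : ℕ) : ↥H12 × Equiv.Perm GolayPt :=
  if h : i < 5 ∧ q < 24 ∧ okM12 i q = true then
    (⟨vP i q, (vP_spec h.1 h.2.1 h.2.2).1⟩, hatP i q) else 1

theorem inv_gen (i q : ℕ) : Inv (gen i q) := by
  unfold gen
  split_ifs with h
  · have hok := genOK_all i h.1 q h.2.1 h.2.2
    have ht := tblOK_of_pairOK hok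
    have : hatP i q = permOfTbl (hatT i q) (hatU i q) ht := by unfold hatP; rw [dif_pos ht]
    rw [this]
    exact inv_of_pairOK (g := ⟨vP i q, (vP_spec h.1 h.2.1 h.2.2).1⟩) (matches_vP i q) hok ht
  · exact inv_one

theorem gen_fst {i q : ℕ} (hi : i < 5) (hq : q < 24) (hok : okM12 i q = true) :
    ((gen i q).1 : Equiv.Perm GolayPt) = vP i q := by
  unfold gen
  rw [dif_pos ⟨hi, hq, hok⟩]

/-! ### Every element of `H12` lifts -/

theorem exists_lift_Hs : ∀ k ≤ 5, ∀ g ∈ Hs (5 - k),
    ∃ x : ↥H12 × Equiv.Perm GolayPt, Inv x ∧ (x.1 : Equiv.Perm GolayPt) = g := by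
  intro k
  induction k with
  | zero =>
    intro _ g hg
    rw [Nat.sub_zero, Hs_five, Subgroup.mem_bot] at hg
    exact ⟨1, inv_one, by rw [hg]; rfl⟩
  | succ k ih =>
    intro hk g hg
    obtain ⟨i, hidef⟩ : ∃ i, i = 5 - (k + 1) := ⟨_, rfl⟩
    rw [← hidef] at hg
    have hi : i < 5 := by omega
    have hi1 : 5 - k = i + 1 := by omega
    have hok := okM12_of_mem_Hs hi hg
    have hq24 : idx (g (bp i)) < 24 := idx_lt _
    obtain ⟨hvH, hvfix, hvmap⟩ := vP_spec hi hq24 hok
    rw [pt_idx] at hvmap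
    have hgH := mem_Hs.mp hg
    have hmem : vP i (idx (g (bp i))) * g ∈ Hs (5 - k) := by
      rw [hi1, mem_Hs]
      refine ⟨H12.mul_mem hvH hgH.1, fun j hj => ?_⟩
      rw [Equiv.Perm.mul_apply]
      by_cases hji : j < i
      · rw [hgH.2 j hji, hvfix j hji]
      · have : j = i := by omega
        subst this
        exact hvmap
    obtain ⟨x', hx', hx'1⟩ := ih (by omega) _ hmem
    refine ⟨(gen i (idx (g (bp i))))⁻¹ * x', inv_mul (inv_inv' (inv_gen _ _)) hx', ?_⟩
    show ((((gen i (idx (g (bp i)))).1)⁻¹ * x'.1 : ↥H12) : Equiv.Perm GolayPt) = g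
    rw [Subgroup.coe_mul, Subgroup.coe_inv, gen_fst hi hq24 hok, hx'1]
    group

end Cfsg.Agent.Lib.Helper57.M12Mult
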