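import Cfsg.Agent.Lib.Helper57.M12Mult.Upper

/-!
# The odd primes, and the upper bound for the Schur multiplier of `H12 ≅ M12`
-/

set_option autoImplicit false

namespace Cfsg.Agent.Lib.Helper57.M12Mult
open Cfsg Cfsg.Agent.Lib.Helper7 Cfsg.Agent.Lib.Helper7.Tbl Cfsg.Agent.Lib.Helper7.Stem
open Cfsg.Agent.Lib.Helper7.SylowPair Subgroup

/-! ### The Sylow 3-subgroup -/

/-- The commutator of `a3` and `b3`. -/
noncomputable def w3 : ↥H12 := a3 * b3 * (a3 * a3) * (b3 * b3)

/-- Its table. -/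
def w3T : List ℕ := compT (compT (compT a3T b3T) (compT a3T a3T)) (compT b3T b3T)

theorem m_w3 : MatchS w3 w3T :=
  matchS_mul (matchS_mul (matchS_mul m_a3 m_b3) (matchS_mul m_a3 m_a3)) (matchS_mul m_b3 m_b3)

/-- Generators (with repetitions) of the Sylow 3-subgroup. -/
noncomputable def gens3 : List ↥H12 := [w3, w3, a3, a3, b3, b3]
/-- Their tables. -/
def gens3T : List (List ℕ) := [w3T, w3T, a3T, a3T, b3T, b3T]

theorem hm3 : List.Forall₂ (MatchS (H := H12)) gens3 gens3T :=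
  .cons m_w3 (.cons m_w3 (.cons m_a3 (.cons m_a3 (.cons m_b3 (.cons m_b3 .nil)))))

theorem card_P3_ge : 27 ≤ Nat.card ↥(zpowers w3 ⊔ zpowers a3 ⊔ zpowers b3) := by
  have hW : zpowers w3 ≤ zpowers w3 ⊔ zpowers a3 ⊔ zpowers b3 := le_sup_left.trans le_sup_left
  have hA : zpowers a3 ≤ zpowers w3 ⊔ zpowers a3 ⊔ zpowers b3 := le_sup_right.trans le_sup_left
  have hB : zpowers b3 ≤ zpowers w3 ⊔ zpowers a3 ⊔ zpowers b3 := le_sup_right
  have := card_ge_of_distinctT (zpowers w3 ⊔ zpowers a3 ⊔ zpowers b3) hm3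
    (by
      intro g hg
      simp only [gens3, List.mem_cons, List.not_mem_nil, or_false] at hg
      rcases hg with rfl | rfl | rfl | rfl | rfl | rfl
      · exact hW (mem_zpowers _)
      · exact hW (mem_zpowers _)
      · exact hA (mem_zpowers _)
      · exact hA (mem_zpowers _)
      · exact hB (mem_zpowers _)
      · exact hB (mem_zpowers _))
    [0, 1, 3, 4, 5, 7, 12, 13, 15, 16, 17, 19, 20, 21, 23, 28, 29, 31, 48, 49, 51, 52, 53, 55, 60, 61, 63]
    (by decide +kernel)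
  simpa using this

/-- The kernels of exponent 3. -/
theorem ker_three {Δ : Type} [Group Δ] [Finite Δ] (τ : Δ →* ↥H12) (hτ : IsStemExtension τ)
    (hexp : ∀ k ∈ τ.ker, k ^ 3 = 1) : τ.ker = ⊥ := by
  refine ker_eq_bot_three_extraspecial τ hτ hexp a3 b3 w3 t3 t3p ?_ ?_ ?_ ?_ ?_ ?_ ?_ ?_ ?_ ?_
    card_P3_ge 3520 (by rw [card_H12]) (by decide)
  · exact eq_of_matchS (matchS_pow m_a3 3) matchS_one (by decide +kernel)
  · exact eq_of_matchS (matchS_pow m_b3 3) matchS_one (by decide +kernel)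
  · exact eq_of_matchS (matchS_pow m_w3 3) matchS_one (by decide +kernel)
  · exact eq_of_matchS (matchS_mul m_a3 m_b3) (matchS_mul (matchS_mul m_w3 m_b3) m_a3)
      (by decide +kernel)
  · exact eq_of_matchS (matchS_mul m_a3 m_w3) (matchS_mul m_w3 m_a3) (by decide +kernel)
  · exact eq_of_matchS (matchS_mul m_b3 m_w3) (matchS_mul m_w3 m_b3) (by decide +kernel)
  · exact eq_of_matchS (matchS_mul m_t3 m_a3) (matchS_mul (matchS_mul m_a3 m_a3) m_t3)
      (by decide +kernel)
  · exact eq_of_matchS (matchS_mul m_t3 m_b3) (matchS_mul (matchS_mul m_b3 m_b3) m_t3)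
      (by decide +kernel)
  · exact eq_of_matchS (matchS_mul m_t3 m_w3) (matchS_mul m_w3 m_t3) (by decide +kernel)
  · exact eq_of_matchS (matchS_mul m_t3p m_w3) (matchS_mul (matchS_mul m_w3 m_w3) m_t3p)
      (by decide +kernel)

/-! ### The other primes -/

theorem orderOf_of_tbl {x : ↥H12} {t : List ℕ} (hx : MatchS x t) (p : ℕ) (hp : p.Prime)
    (h1 : teq (powTb t p) idT = true) (h2 : teq t idT = false) : orderOf x = p := by
  have : Fact p.Prime := ⟨hp⟩
  exact orderOf_eq_prime (eq_of_matchS (matchS_pow hx p) matchS_one h1)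
    (ne_of_matchS hx matchS_one h2)

theorem orderOf_e5 : orderOf e5 = 5 :=
  orderOf_of_tbl m_e5 5 (by norm_num) (by decide +kernel) (by decide +kernel)
theorem orderOf_e11 : orderOf e11 = 11 :=
  orderOf_of_tbl m_e11 11 (by norm_num) (by decide +kernel) (by decide +kernel)

theorem coprime_card_of_prime {p : ℕ} (hp : p.Prime) (h2 : p ≠ 2) (h3 : p ≠ 3) (h5 : p ≠ 5)
    (h11 : p ≠ 11) : Nat.Coprime 95040 p := by
  rw [Nat.coprime_comm, Nat.Prime.coprime_iff_not_dvd hp]
  intro hd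
  have e : 95040 = 2 ^ 6 * 3 ^ 3 * 5 * 11 := by norm_num
  rw [e] at hd
  have hpr := fun {q : ℕ} (hq : q.Prime) (h : p ∣ q) => (Nat.prime_dvd_prime_iff_eq hp hq).mp h
  rcases (Nat.Prime.dvd_mul hp).mp hd with hd | hd
  · rcases (Nat.Prime.dvd_mul hp).mp hd with hd | hd
    · rcases (Nat.Prime.dvd_mul hp).mp hd with hd | hd
      · exact h2 (hpr (by norm_num) (hp.dvd_of_dvd_pow hd))
      · exact h3 (hpr (by norm_num) (hp.dvd_of_dvd_pow hd))
    · exact h5 (hpr (by norm_num) hd)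
  · exact h11 (hpr (by norm_num) hd)

/-- The kernels of odd prime exponent. -/
theorem ker_odd (p : ℕ) (hp : p.Prime) (h2 : p ≠ 2) (Δ : Type) [Group Δ] [Finite Δ]
    (τ : Δ →* ↥H12) (hτ : IsStemExtension τ) (hexp : ∀ k ∈ τ.ker, k ^ p = 1) : τ.ker = ⊥ := by
  by_cases h3 : p = 3
  · subst h3; exact ker_three τ hτ hexp
  by_cases h5 : p = 5
  · subst h5
    exact ker_eq_bot_of_orderOf τ hτ 5 hexp e5 orderOf_e5 19008 (by rw [card_H12]) (by norm_num)
      (by decide)
  by_cases h11 : p = 11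
  · subst h11
    exact ker_eq_bot_of_orderOf τ hτ 11 hexp e11 orderOf_e11 8640 (by rw [card_H12]) (by norm_num)
      (by decide)
  · apply ker_eq_bot_of_coprime_card τ hτ p hexp
    rw [card_H12]
    exact coprime_card_of_prime hp h2 h3 h5 h11

/-- The kernel of every finite stem extension of `H12` is a homomorphic image of `ZMod 2`. -/
theorem upper (Δ : Type) [Group Δ] [Finite Δ] (τ : Δ →* ↥H12) (hτ : IsStemExtension τ) :
    ∃ π : Multiplicative (ZMod 2) →* τ.ker, Function.Surjective π :=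
  exists_twoHom_surjective b y b_y b_sq ker_odd
    (fun _ _ _ τ hτ hexp hlift => ker_two τ hτ hexp hlift) Δ τ hτ

end Cfsg.Agent.Lib.Helper57.M12Mult
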