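import Cfsg.Agent.Lib.Helper57.M12Mult.Cover
import Cfsg.Agent.Lib.Helper57.M12Mult.Upper2

/-!
# The double cover `2.M12`: the kernel, and the Schur multiplier of `H12 ≅ M12`

The pairs `(h, f)` with `Inv (h, f)` form a group `Gam` projecting onto `H12`; a pair `(1, f)` in it has `f = 1`
or `f = ν`, because the only diagonal sign changes preserving the 24 signed dodecads are `± 1`; and `(1, ν)` is
the commutator of lifts of the commuting involutions `b, y`.
-/

set_option autoImplicit false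

namespace Cfsg.Agent.Lib.Helper57.M12Mult
open Cfsg Cfsg.Agent.Lib.Helper7 Cfsg.Agent.Lib.Helper7.Tbl
open scoped commutatorElement

/-! ### The kernel -/

theorem Dl_inj : ∀ a < 12, ∀ b < 12, Dl.getD a 0 = Dl.getD b 0 → a = b := by decide

/-- The first signed dodecad. -/
def W0 : ℕ := 135135

theorem W0_mem : W0 ∈ Wl := by decide

set_option maxRecDepth 100000 in
theorem Wl_V : ∀ w ∈ Wl, ∀ j < 24, w.testBit ((j + 12) % 24) = !w.testBit j := by decide +kernel

set_option maxRecDepth 100000 in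
theorem Wl_U : ∀ w' ∈ Wl,
    (∀ w ∈ Wl, ∃ w2 ∈ Wl, ∀ j < 24,
      w2.testBit j = (w.testBit j ^^ (w'.testBit j ^^ W0.testBit j))) →
    (∀ j < 24, w'.testBit j = W0.testBit j) ∨ (∀ j < 24, w'.testBit j = !W0.testBit j) := by
  decide +kernel

theorem sign_lemma (t : ℕ → ℕ) (h1 : ∀ j < 24, t j < 24) (h2 : ∀ j < 24, t j % 12 = j % 12)
    (h3 : ∀ j < 24, t ((j + 12) % 24) = (t j + 12) % 24)
    (h4 : ∀ m ∈ Wl, ∃ m' ∈ Wl, ∀ j < 24, m'.testBit (t j) = m.testBit j) :
    (∀ j < 24, t j = j) ∨ (∀ j < 24, t j = (j + 12) % 24) := by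
  have hcases : ∀ j < 24, t j = j ∨ t j = (j + 12) % 24 := by
    intro j hj
    have := h2 j hj
    have := h1 j hj
    omega
  have himg : ∀ m ∈ Wl, ∀ m' ∈ Wl, (∀ j < 24, m'.testBit (t j) = m.testBit j) →
      ∀ j < 24, m'.testBit j = (m.testBit j ^^ decide (t j ≠ j)) := by
    intro m hm m' _ hmm j hj
    rcases hcases j hj with hc | hc
    · have h6 := hmm j hj
      rw [hc] at h6
      rw [h6]
      simp [hc]
    · have hne : t j ≠ j := by rw [hc]; omega
      have hj' : (j + 12) % 24 < 24 := Nat.mod_lt _ (by norm_num)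
      have h6 := hmm _ hj'
      rw [h3 j hj, hc] at h6
      have h7 : ((j + 12) % 24 + 12) % 24 = j := by omega
      rw [h7] at h6
      rw [h6, Wl_V m hm j hj]
      simp [hne]
  obtain ⟨w0', hw0', hw0⟩ := h4 W0 W0_mem
  have hs := himg W0 W0_mem w0' hw0' hw0
  have hs' : ∀ j < 24, decide (t j ≠ j) = (w0'.testBit j ^^ W0.testBit j) := by
    intro j hj
    rw [hs j hj]
    cases W0.testBit j <;> cases decide (t j ≠ j) <;> rfl
  have hyp : ∀ w ∈ Wl, ∃ w2 ∈ Wl, ∀ j < 24,
      w2.testBit j = (w.testBit j ^^ (w0'.testBit j ^^ W0.testBit j)) := by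
    intro w hw
    obtain ⟨w2, hw2, hww⟩ := h4 w hw
    refine ⟨w2, hw2, fun j hj => ?_⟩
    rw [himg w hw w2 hw2 hww j hj, hs' j hj]
  rcases Wl_U w0' hw0' hyp with hA | hB
  · left
    intro j hj
    have h6 := hs' j hj
    rw [hA j hj] at h6
    have h7 : decide (t j ≠ j) = false := by
      rw [h6]; cases W0.testBit j <;> rfl
    simpa using h7
  · right
    intro j hj
    have h6 := hs' j hj
    rw [hB j hj] at h6
    have h7 : decide (t j ≠ j) = true := by
      rw [h6]; cases W0.testBit j <;> rfl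
    have hne : t j ≠ j := by simpa using h7
    rcases hcases j hj with hc | hc
    · exact absurd hc hne
    · exact hc

theorem ker_cases {x : ↥H12 × Equiv.Perm GolayPt} (hx : Inv x) (h1 : x.1 = 1) :
    x.2 = 1 ∨ x.2 = nuP := by
  obtain ⟨hnu, hB, hD⟩ := hx
  have hnu' : ∀ j < 24, idx (x.2 (pt ((j + 12) % 24))) = (idx (x.2 (pt j)) + 12) % 24 := by
    intro j hj
    have e1 : pt ((j + 12) % 24) = nuP (pt j) := by
      rw [← pt_idx (nuP (pt j)), matches_nuP (pt j), idx_pt hj, nuT_getD j hj]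
    have e2 : x.2 (nuP (pt j)) = nuP (x.2 (pt j)) := by
      have := congrArg (fun σ : Equiv.Perm GolayPt => σ (pt j)) hnu
      simpa only [Equiv.Perm.mul_apply] using this
    rw [e1, e2, matches_nuP (x.2 (pt j)), nuT_getD _ (idx_lt _)]
  have h2 : ∀ j < 24, idx (x.2 (pt j)) % 12 = j % 12 := by
    intro j hj
    have h := hD j hj
    rw [h1] at h
    have h' : Dl.getD (idx (x.2 (pt j)) % 12) 0 = Dl.getD (j % 12) 0 := by
      rw [h]
      show idx (pt (Dl.getD (j % 12) 0)) = _
      rw [idx_pt (Dl_lt j)]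
    exact Dl_inj _ (Nat.mod_lt _ (by norm_num)) _ (Nat.mod_lt _ (by norm_num)) h'
  have h4 : ∀ m ∈ Wl, ∃ m' ∈ Wl, ∀ j < 24, m'.testBit (idx (x.2 (pt j))) = m.testBit j := by
    intro m hm
    obtain ⟨m', hm', h⟩ := hB m hm
    refine ⟨m', hm', fun j hj => ?_⟩
    rw [h (pt j), idx_pt hj]
  rcases sign_lemma (fun j => idx (x.2 (pt j))) (fun j _ => idx_lt _) h2 hnu' h4 with hA | hA
  · left
    apply eq_one_of_matches_idT
    intro p
    have h := hA (idx p) (idx_lt p)
    simp only [pt_idx] at h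
    rw [h]
    exact matches_one p
  · right
    apply eq_of_matches (t := nuT) (u := nuT) _ matches_nuP (fun _ _ => rfl)
    intro p
    have h := hA (idx p) (idx_lt p)
    simp only [pt_idx] at h
    rw [h, nuT_getD _ (idx_lt p)]

/-! ### The group `2.M12` -/

/-- The double cover, as a subgroup of `H12 × Perm GolayPt`. -/
def Gam : Subgroup (↥H12 × Equiv.Perm GolayPt) where
  carrier := {x | Inv x}
  mul_mem' := inv_mul
  one_mem' := inv_one
  inv_mem' := inv_inv'

/-- The covering map. -/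
def sig : ↥Gam →* ↥H12 := (MonoidHom.fst ↥H12 (Equiv.Perm GolayPt)).comp Gam.subtype

theorem sig_apply (x : ↥Gam) : sig x = x.1.1 := rfl

theorem sig_surjective : Function.Surjective sig := by
  intro h
  have hh : (h : Equiv.Perm GolayPt) ∈ Hs (5 - 5) := by
    rw [Nat.sub_self, Hs_zero]; exact h.2
  obtain ⟨x, hx, hx1⟩ := exists_lift_Hs 5 (le_refl 5) _ hh
  exact ⟨⟨x, hx⟩, Subtype.ext hx1⟩

theorem bh_ok : pairOK bT bhT bhU = true := by decide +kernel
theorem yh_ok : pairOK yT yhT yhU = true := by decide +kernel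

/-- Second component of the lift of `b`. -/
def bhP : Equiv.Perm GolayPt := permOfTbl bhT bhU (tblOK_of_pairOK bh_ok)
/-- Second component of the lift of `y`. -/
def yhP : Equiv.Perm GolayPt := permOfTbl yhT yhU (tblOK_of_pairOK yh_ok)

/-- The lift of `b`. -/
noncomputable def bh : ↥Gam := ⟨(b, bhP), inv_of_pairOK m_b bh_ok _⟩
/-- The lift of `y`. -/
noncomputable def yh : ↥Gam := ⟨(y, yhP), inv_of_pairOK m_y yh_ok _⟩

theorem bhP_yhP : bhP * yhP = nuP * (yhP * bhP) :=
  eq_of_matches (matches_mul (matches_permOfTbl _ _ _) (matches_permOfTbl _ _ _))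
    (matches_mul matches_nuP (matches_mul (matches_permOfTbl _ _ _) (matches_permOfTbl _ _ _)))
    (teq_spec (by decide +kernel))

/-- The central involution. -/
noncomputable def nG : ↥Gam := ⁅bh, yh⁆

theorem nG_val : (nG : ↥H12 × Equiv.Perm GolayPt) = (1, nuP) := by
  have h1 : (nG : ↥H12 × Equiv.Perm GolayPt) = ⁅((b, bhP) : ↥H12 × Equiv.Perm GolayPt), (y, yhP)⁆ := rfl
  rw [h1]
  apply Prod.ext
  · show ⁅b, y⁆ = 1
    exact commutatorElement_eq_one_iff_mul_comm.mpr b_y
  · show ⁅bhP, yhP⁆ = nuP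
    rw [commutatorElement_def, bhP_yhP]
    group

theorem nuP_ne_one : nuP ≠ 1 := by
  intro h
  have h2 : idx (nuP (pt 0)) = idx (pt 0) := by rw [h]; rfl
  rw [matches_nuP (pt 0), idx_pt (by norm_num)] at h2
  revert h2
  decide

theorem nG_ne_one : nG ≠ 1 := by
  intro h
  have h2 := congrArg (fun x : ↥Gam => (x : ↥H12 × Equiv.Perm GolayPt).2) h
  simp only [nG_val] at h2
  exact nuP_ne_one h2

theorem mem_ker_sig {x : ↥Gam} : x ∈ sig.ker ↔ x.1.1 = 1 := MonoidHom.mem_ker

theorem ker_sig_cases {x : ↥Gam} (hx : x ∈ sig.ker) : x = 1 ∨ x = nG := by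
  have h1 : x.1.1 = 1 := mem_ker_sig.mp hx
  rcases ker_cases x.2 h1 with h2 | h2
  · left; exact Subtype.ext (Prod.ext h1 h2)
  · right
    apply Subtype.ext
    rw [nG_val]
    exact Prod.ext h1 h2

theorem nG_mem_ker : nG ∈ sig.ker := by
  rw [mem_ker_sig, nG_val]

theorem stem_sig : IsStemExtension sig := by
  refine ⟨sig_surjective, ?_, ?_⟩
  · intro x hx
    rw [Subgroup.mem_center_iff]
    intro g
    have h1 : x.1.1 = 1 := mem_ker_sig.mp hx
    apply Subtype.ext
    apply Prod.ext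
    · show g.1.1 * x.1.1 = x.1.1 * g.1.1
      rw [h1, mul_one, one_mul]
    · show g.1.2 * x.1.2 = x.1.2 * g.1.2
      rcases ker_cases x.2 h1 with h2 | h2
      · rw [h2, mul_one, one_mul]
      · rw [h2]; exact g.2.1
  · intro x hx
    rcases ker_sig_cases hx with rfl | rfl
    · exact (commutator ↥Gam).one_mem
    · exact Subgroup.commutator_mem_commutator (Subgroup.mem_top _) (Subgroup.mem_top _)

theorem card_ker_sig : Nat.card sig.ker = 2 := by
  rw [Nat.card_eq_two_iff]
  refine ⟨⟨1, sig.ker.one_mem⟩, ⟨nG, nG_mem_ker⟩, ?_, ?_⟩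
  · intro h
    exact nG_ne_one (congrArg Subtype.val h).symm
  · ext x
    simp only [Set.mem_insert_iff, Set.mem_singleton_iff, Set.mem_univ, iff_true]
    rcases ker_sig_cases x.2 with h | h
    · left; exact Subtype.ext h
    · right; exact Subtype.ext h

/-- The Schur multiplier of `H12 ≅ M12` is cyclic of order two. -/
theorem multiplier_H12 : Cfsg.HasCyclicSchurMultiplier ↥H12 2 := by
  have : Fact (Nat.Prime 2) := ⟨Nat.prime_two⟩
  have hc2 : Nat.card (Multiplicative (ZMod 2)) = 2 := by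
    rw [Nat.card_eq_fintype_card, Fintype.card_multiplicative, ZMod.card]
  exact ⟨⟨↥Gam, inferInstance, inferInstance, sig, stem_sig,
    ⟨mulEquivOfPrimeCardEq (p := 2) card_ker_sig hc2⟩⟩, fun Δ _ _ τ hτ => upper Δ τ hτ⟩

end Cfsg.Agent.Lib.Helper57.M12Mult
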