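import Cfsg.Agent.Lib.Helper7.StemStep

/-!
# A presentation of the Sylow 2-subgroup of `M12` by squares of involutions

Abstract lemma: three involutions `a, b, c` with `(cb)² = ((ca)²)² = (c (ba)²)² = 1` generate a group of order
at most `64`.  (All relators are squares of words which are involutions in the Sylow 2-subgroup of `M12`.)
-/

set_option autoImplicit false

namespace Cfsg.Agent.Lib.Helper57.M12Mult

open Subgroup Cfsg.Agent.Lib.Helper7.Stem

variable {Γ : Type*} [Group Γ]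

theorem conj_zpowers_mem' {R : Subgroup Γ} {s g : Γ} (hs : g * s * g⁻¹ ∈ R) :
    ∀ x ∈ zpowers s, g * x * g⁻¹ ∈ R := by
  intro x hx
  have hle : zpowers s ≤ R.comap (MulAut.conj g).toMonoidHom := by
    rw [zpowers_le, mem_comap]
    simpa [MulAut.conj_apply] using hs
  have := hle hx
  rw [mem_comap] at this
  simpa [MulAut.conj_apply] using this

theorem card_closure_le_sixtyfour [Finite Γ] (a b c : Γ) (ha : a * a = 1) (hb : b * b = 1)
    (hc : c * c = 1) (hcb : (c * b) * (c * b) = 1)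
    (hca : ((c * a) * (c * a)) * ((c * a) * (c * a)) = 1)
    (hcr : (c * ((b * a) * (b * a))) * (c * ((b * a) * (b * a))) = 1) :
    Nat.card ↥(closure ({a, b, c} : Set Γ)) ≤ 64 := by
  have ainv : a⁻¹ = a := (eq_inv_of_mul_eq_one_left ha).symm
  have binv : b⁻¹ = b := (eq_inv_of_mul_eq_one_left hb).symm
  have cinv : c⁻¹ = c := (eq_inv_of_mul_eq_one_left hc).symm
  -- `b` and `c` commute
  have hbc : c * b = b * c := by
    have h1 : c * b = (c * b)⁻¹ := eq_inv_of_mul_eq_one_left hcb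
    rw [h1, mul_inv_rev, binv, cinv]
  obtain ⟨r, hr⟩ : ∃ r, r = b * a := ⟨_, rfl⟩
  obtain ⟨d, hd⟩ : ∃ d, d = b * c := ⟨_, rfl⟩
  have hdd : d * d = 1 := by
    rw [hd]
    calc b * c * (b * c) = b * (c * b) * c := by group
      _ = b * (b * c) * c := by rw [hbc]
      _ = (b * b) * (c * c) := by group
      _ = 1 := by rw [hb, hc, one_mul]
  have dinv : d⁻¹ = d := (eq_inv_of_mul_eq_one_left hdd).symm
  have hbd : b * d = d * b := by
    rw [hd]
    calc b * (b * c) = b * (c * b) := by rw [hbc]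
      _ = b * c * b := by group
  -- `b` inverts `r`
  have hbr : b * r * b⁻¹ = r⁻¹ := by
    rw [hr, mul_inv_rev, ainv, binv]
    calc b * (b * a) * b = (b * b) * a * b := by group
      _ = a * b := by rw [hb, one_mul]
  -- `c` inverts `r²`
  have hcr2 : c * (r * r) * c⁻¹ = (r * r)⁻¹ := by
    rw [← hr] at hcr
    rw [cinv]
    have h1 : c * (r * r) * c * (r * r) = 1 := by
      calc c * (r * r) * c * (r * r) = (c * (r * r)) * (c * (r * r)) := by group
        _ = 1 := hcr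
    exact eq_inv_of_mul_eq_one_left h1
  -- `d r = c a`
  have hdr : d * r = c * a := by
    rw [hd, hr]
    calc b * c * (b * a) = b * (c * b) * a := by group
      _ = b * (b * c) * a := by rw [hbc]
      _ = (b * b) * c * a := by group
      _ = c * a := by rw [hb, one_mul]
  obtain ⟨s, hs⟩ : ∃ s, s = d * r * d := ⟨_, rfl⟩
  -- `(s r)² = 1`
  have hsr : (s * r) * (s * r) = 1 := by
    have e : s * r = (c * a) * (c * a) := by
      rw [hs, ← hdr]; group
    rw [e]; exact hca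
  -- `s² = r²`
  have hss : s * s = r * r := by
    have e1 : d * (r * r) * d = b * (c * (r * r) * c⁻¹) * b⁻¹ := by
      rw [cinv, binv]
      calc d * (r * r) * d = (b * c) * (r * r) * (b * c) := by rw [hd]
        _ = (b * c) * (r * r) * (c * b) := by rw [hbc]
        _ = b * (c * (r * r) * c) * b := by group
    calc s * s = d * r * (d * d) * r * d := by rw [hs]; group
      _ = d * (r * r) * d := by rw [hdd]; group
      _ = b * (c * (r * r) * c⁻¹) * b⁻¹ := e1
      _ = b * (r * r)⁻¹ * b⁻¹ := by rw [hcr2]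
      _ = ((b * r * b⁻¹) * (b * r * b⁻¹))⁻¹ := by group
      _ = (r⁻¹ * r⁻¹)⁻¹ := by rw [hbr]
      _ = r * r := by rw [mul_inv_rev, inv_inv]
  -- `s r s⁻¹ = r⁻³`
  have hsinv : s⁻¹ = s * (r * r)⁻¹ := by
    rw [← hss]; group
  have hsrs : s * r * s⁻¹ = r⁻¹ * r⁻¹ * r⁻¹ := by
    have h1 : s * r * s = r⁻¹ := by
      have : s * r * s * r = 1 := by
        calc s * r * s * r = (s * r) * (s * r) := by group
          _ = 1 := hsr
      exact eq_inv_of_mul_eq_one_left this
    calc s * r * s⁻¹ = s * r * (s * (r * r)⁻¹) := by rw [← hsinv]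
      _ = (s * r * s) * (r * r)⁻¹ := by group
      _ = r⁻¹ * (r * r)⁻¹ := by rw [h1]
      _ = r⁻¹ * r⁻¹ * r⁻¹ := by group
  -- `r⁸ = 1`
  have hr8 : r ^ 8 = 1 := by
    have h1 : s * (r * r) * s⁻¹ = r * r := by
      rw [← hss]; group
    have h2 : s * (r * r) * s⁻¹ = (s * r * s⁻¹) * (s * r * s⁻¹) := by group
    rw [h2, hsrs] at h1
    have h3 : r ^ 8 = (r * r) * (r⁻¹ * r⁻¹ * r⁻¹ * (r⁻¹ * r⁻¹ * r⁻¹))⁻¹ := by group
    rw [h3, h1]; group
  -- the chain
  set Q1 := zpowers r with hQ1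
  set Q2 := Q1 ⊔ zpowers s with hQ2
  set Q3 := Q2 ⊔ zpowers d with hQ3
  set Q4 := Q3 ⊔ zpowers b with hQ4
  have hrQ1 : r ∈ Q1 := mem_zpowers r
  have hQ12 : Q1 ≤ Q2 := le_sup_left
  have hQ23 : Q2 ≤ Q3 := le_sup_left
  have hQ34 : Q3 ≤ Q4 := le_sup_left
  have hsQ2 : s ∈ Q2 := (le_sup_right : zpowers s ≤ Q2) (mem_zpowers s)
  have hdQ3 : d ∈ Q3 := (le_sup_right : zpowers d ≤ Q3) (mem_zpowers d)
  have hbQ4 : b ∈ Q4 := (le_sup_right : zpowers b ≤ Q4) (mem_zpowers b)
  have hc1 : Nat.card ↥Q1 ≤ 8 := by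
    rw [hQ1, Nat.card_zpowers]
    exact Nat.le_of_dvd (by norm_num) (orderOf_dvd_of_pow_eq_one hr8)
  have hs_Q1 : ∀ q ∈ Q1, s * q * s⁻¹ ∈ Q1 := by
    apply conj_zpowers_mem'
    rw [hsrs]
    exact Q1.mul_mem (Q1.mul_mem (Q1.inv_mem hrQ1) (Q1.inv_mem hrQ1)) (Q1.inv_mem hrQ1)
  have hc2 : Nat.card ↥Q2 ≤ 2 * Nat.card ↥Q1 :=
    card_sup_zpowers_le (by norm_num) (by rw [pow_two, hss]; exact Q1.mul_mem hrQ1 hrQ1) hs_Q1
  have hd_Q2 : ∀ q ∈ Q2, d * q * d⁻¹ ∈ Q2 := by
    apply conj_sup_zpowers_mem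
    · apply conj_zpowers_mem'
      rw [dinv, ← hs]; exact hsQ2
    · have e : d * s * d⁻¹ = r := by
        rw [dinv, hs]
        calc d * (d * r * d) * d = (d * d) * r * (d * d) := by group
          _ = r := by rw [hdd, one_mul, mul_one]
      rw [e]; exact hQ12 hrQ1
  have hc3 : Nat.card ↥Q3 ≤ 2 * Nat.card ↥Q2 :=
    card_sup_zpowers_le (by norm_num) (by rw [pow_two, hdd]; exact Q2.one_mem) hd_Q2
  have hb_Q3 : ∀ q ∈ Q3, b * q * b⁻¹ ∈ Q3 := by
    apply conj_sup_zpowers_mem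
    · apply conj_sup_zpowers_mem
      · apply conj_zpowers_mem'
        rw [hbr]; exact hQ23 (hQ12 (Q1.inv_mem hrQ1))
      · have e : b * s * b⁻¹ = s⁻¹ := by
          rw [hs, mul_inv_rev, mul_inv_rev, dinv]
          calc b * (d * r * d) * b⁻¹ = (b * d) * r * d * b⁻¹ := by group
            _ = (d * b) * r * d * b⁻¹ := by rw [hbd]
            _ = d * (b * r * b⁻¹) * (b * d) * b⁻¹ := by group
            _ = d * r⁻¹ * (d * b) * b⁻¹ := by rw [hbr, hbd]
            _ = d * (r⁻¹ * d) := by group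
        rw [e]; exact hQ23 (Q2.inv_mem hsQ2)
    · have e : b * d * b⁻¹ = d := by rw [hbd]; group
      rw [e]; exact hdQ3
  have hc4 : Nat.card ↥Q4 ≤ 2 * Nat.card ↥Q3 :=
    card_sup_zpowers_le (by norm_num) (by rw [pow_two, hb]; exact Q3.one_mem) hb_Q3
  have hle : closure ({a, b, c} : Set Γ) ≤ Q4 := by
    rw [closure_le]
    intro x hx
    simp only [Set.mem_insert_iff, Set.mem_singleton_iff] at hx
    rcases hx with rfl | rfl | rfl
    · have e : x = b * r := by
        rw [hr]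
        calc x = (b * b) * x := by rw [hb, one_mul]
          _ = b * (b * x) := by group
      rw [e]; exact Q4.mul_mem hbQ4 (hQ34 (hQ23 (hQ12 hrQ1)))
    · exact hbQ4
    · have e : x = b * d := by
        rw [hd]
        calc x = (b * b) * x := by rw [hb, one_mul]
          _ = b * (b * x) := by group
      rw [e]; exact Q4.mul_mem hbQ4 (hQ34 hdQ3)
  have h1 : Nat.card ↥(closure ({a, b, c} : Set Γ)) ≤ Nat.card ↥Q4 :=
    Subgroup.card_le_of_le hle
  omega

end Cfsg.Agent.Lib.Helper57.M12Mult
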