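import Cfsg.Agent.Lib.Helper7.StemReduce

/-!
# Schur multiplier of order at most two: a reduction

Let `x, y` be commuting elements of a finite group `G` with `x² = 1`.  Assume that the finite stem extensions of `G`
with kernel of odd prime exponent are trivial, and that the finite stem extensions with kernel of exponent `2`
in which some lifts of `x` and `y` commute are trivial.  Then the kernel of every finite stem extension of `G` is a
homomorphic image of `ZMod 2`.
-/

set_option autoImplicit false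

namespace Cfsg.Agent.Lib.Helper57.M12Mult

open Subgroup Cfsg.Agent.Lib.Helper7.Stem

universe u

variable {G : Type u} [Group G]

/-- The map `ZMod 2 → Γ` attached to an element of order at most `2`. -/
def twoHom {Γ : Type*} [Group Γ] (c : Γ) (hc : c * c = 1) : Multiplicative (ZMod 2) →* Γ where
  toFun m := if Multiplicative.toAdd m = 0 then 1 else c
  map_one' := by simp
  map_mul' := by
    intro m n
    have h2 : ∀ z : ZMod 2, z = 0 ∨ z = 1 := by decide
    rcases h2 (Multiplicative.toAdd m) with hm | hm <;> rcases h2 (Multiplicative.toAdd n) with hn | hn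
    · simp [toAdd_mul, hm, hn]
    · simp [toAdd_mul, hm, hn]
    · simp [toAdd_mul, hm, hn]
    · have : (1 : ZMod 2) + 1 = 0 := by decide
      simp [toAdd_mul, hm, hn, this, hc]

theorem twoHom_apply_of_ne {Γ : Type*} [Group Γ] (c : Γ) (hc : c * c = 1) :
    twoHom c hc (Multiplicative.ofAdd 1) = c := by
  have : (1 : ZMod 2) ≠ 0 := by decide
  simp [twoHom, this]

theorem exists_twoHom_surjective [Finite G] (x y : G) (hxy : x * y = y * x) (hx2 : x * x = 1)
    (Hodd : ∀ p : ℕ, p.Prime → p ≠ 2 → ∀ (Δ : Type u) [Group Δ] [Finite Δ] (τ : Δ →* G),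
      Cfsg.IsStemExtension τ → (∀ k ∈ τ.ker, k ^ p = 1) → τ.ker = ⊥)
    (KL : ∀ (Δ : Type u) [Group Δ] [Finite Δ] (τ : Δ →* G), Cfsg.IsStemExtension τ →
      (∀ k ∈ τ.ker, k * k = 1) → (∃ x' y' : Δ, τ x' = x ∧ τ y' = y ∧ x' * y' = y' * x') → τ.ker = ⊥)
    (Δ : Type u) [Group Δ] [Finite Δ] (τ : Δ →* G) (hτ : Cfsg.IsStemExtension τ) :
    ∃ π : Multiplicative (ZMod 2) →* τ.ker, Function.Surjective π := by
  classical
  have hcen := hτ.2.1
  obtain ⟨x₀, hx₀⟩ := hτ.1 x
  obtain ⟨y₀, hy₀⟩ := hτ.1 y
  -- the commutator of the lifts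
  obtain ⟨c, hcdef⟩ : ∃ c, c = y₀ * x₀ * y₀⁻¹ * x₀⁻¹ := ⟨_, rfl⟩
  have hcker : c ∈ τ.ker := by
    rw [MonoidHom.mem_ker, hcdef, map_mul, map_mul, map_mul, map_inv, map_inv, hx₀, hy₀, ← hxy]
    group
  have hccen : ∀ g : Δ, g * c = c * g := fun g => Subgroup.mem_center_iff.mp (hcen hcker) g
  have hx₀2 : x₀ * x₀ ∈ τ.ker := by
    rw [MonoidHom.mem_ker, map_mul, hx₀, hx2]
  have hx₀2cen : ∀ g : Δ, g * (x₀ * x₀) = (x₀ * x₀) * g :=
    fun g => Subgroup.mem_center_iff.mp (hcen hx₀2) g
  have hcc : c * c = 1 := by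
    have h1 : y₀ * x₀ * y₀⁻¹ = c * x₀ := by rw [hcdef]; group
    have h2 : (c * x₀) * (c * x₀) = x₀ * x₀ := by
      rw [← h1]
      calc y₀ * x₀ * y₀⁻¹ * (y₀ * x₀ * y₀⁻¹) = y₀ * (x₀ * x₀) * y₀⁻¹ := by group
        _ = (x₀ * x₀) * y₀ * y₀⁻¹ := by rw [hx₀2cen y₀]
        _ = x₀ * x₀ := by group
    have h3 : (c * x₀) * (c * x₀) = c * c * (x₀ * x₀) := by
      calc (c * x₀) * (c * x₀) = c * (x₀ * c) * x₀ := by group
        _ = c * (c * x₀) * x₀ := by rw [hccen x₀]
        _ = c * c * (x₀ * x₀) := by group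
    rw [h3] at h2
    exact mul_eq_right.mp h2
  -- the subgroup `B = A² ⟨c⟩`
  have hcomm : ∀ k ∈ τ.ker, ∀ g : Δ, g * k = k * g :=
    fun k hk g => Subgroup.mem_center_iff.mp (hcen hk) g
  let S : Subgroup Δ :=
    { carrier := {z | ∃ k ∈ τ.ker, z = k * k}
      one_mem' := ⟨1, τ.ker.one_mem, by simp⟩
      mul_mem' := by
        rintro _ _ ⟨k, hk, rfl⟩ ⟨l, hl, rfl⟩
        refine ⟨k * l, τ.ker.mul_mem hk hl, ?_⟩
        calc k * k * (l * l) = k * (k * l) * l := by group
          _ = k * (l * k) * l := by rw [hcomm l hl k]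
          _ = k * l * (k * l) := by group
      inv_mem' := by
        rintro _ ⟨k, hk, rfl⟩
        exact ⟨k⁻¹, τ.ker.inv_mem hk, by group⟩ }
  have hSker : S ≤ τ.ker := by
    rintro _ ⟨k, hk, rfl⟩
    exact τ.ker.mul_mem hk hk
  let B : Subgroup Δ :=
    { carrier := {z | z ∈ S ∨ z * c ∈ S}
      one_mem' := Or.inl S.one_mem
      mul_mem' := by
        rintro z w hz hw
        rcases hz with hz | hz <;> rcases hw with hw | hw
        · exact Or.inl (S.mul_mem hz hw)
        · right
          have : z * w * c = z * (w * c) := by group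
          rw [this]; exact S.mul_mem hz hw
        · right
          have : z * w * c = (z * c) * w := by
            calc z * w * c = z * (w * c) := by group
              _ = z * (c * w) := by rw [hccen w]
              _ = (z * c) * w := by group
          rw [this]; exact S.mul_mem hz hw
        · left
          have : z * w = (z * c) * (w * c) := by
            calc z * w = z * w * (c * c) := by rw [hcc, mul_one]
              _ = z * ((w * c) * c) := by group
              _ = z * (c * (w * c)) := by rw [hccen (w * c)]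
              _ = (z * c) * (w * c) := by group
          rw [this]; exact S.mul_mem hz hw
      inv_mem' := by
        rintro z hz
        rcases hz with hz | hz
        · exact Or.inl (S.inv_mem hz)
        · right
          have : z⁻¹ * c = (z * c)⁻¹ := by
            calc z⁻¹ * c = z⁻¹ * c * (c * c)⁻¹ := by rw [hcc]; group
              _ = z⁻¹ * c⁻¹ := by group
              _ = (c * z)⁻¹ := by group
              _ = (z * c)⁻¹ := by rw [hccen z]
          rw [this]; exact S.inv_mem hz }
  have hBker : B ≤ τ.ker := by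
    rintro z (hz | hz)
    · exact hSker hz
    · have h1 := hSker hz
      have : z = (z * c) * c⁻¹ := by group
      rw [this]; exact τ.ker.mul_mem h1 (τ.ker.inv_mem hcker)
  have hcB : c ∈ B := by
    right
    rw [hcc]; exact S.one_mem
  have hBn : B.Normal := by
    constructor
    intro n hn g
    have : g * n * g⁻¹ = n := by
      rw [hcomm n (hBker hn) g]; group
    rw [this]; exact hn
  -- the quotient extension
  have hτ' := isStemExtension_lift τ hτ B hBker
  have hker' : (QuotientGroup.lift B τ hBker).ker = ⊥ := by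
    apply KL (Δ ⧸ B) (QuotientGroup.lift B τ hBker) hτ'
    · intro q hq
      induction q using QuotientGroup.induction_on with
      | H z =>
        rw [MonoidHom.mem_ker, QuotientGroup.lift_mk] at hq
        have hz : z ∈ τ.ker := MonoidHom.mem_ker.mpr hq
        rw [← QuotientGroup.mk_mul, QuotientGroup.eq_one_iff]
        exact Or.inl ⟨z, hz, rfl⟩
    · refine ⟨QuotientGroup.mk x₀, QuotientGroup.mk y₀, ?_, ?_, ?_⟩
      · rw [QuotientGroup.lift_mk]; exact hx₀
      · rw [QuotientGroup.lift_mk]; exact hy₀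
      · rw [← QuotientGroup.mk_mul, ← QuotientGroup.mk_mul, QuotientGroup.eq]
        have hyx : y₀ * x₀ = c * (x₀ * y₀) := by rw [hcdef]; group
        have : (x₀ * y₀)⁻¹ * (y₀ * x₀) = c := by
          calc (x₀ * y₀)⁻¹ * (y₀ * x₀) = ((x₀ * y₀)⁻¹ * c) * (x₀ * y₀) := by rw [hyx]; group
            _ = (c * (x₀ * y₀)⁻¹) * (x₀ * y₀) := by rw [hccen (x₀ * y₀)⁻¹]
            _ = c := by group
        rw [this]
        exact hcB
  have hAB : τ.ker ≤ B := by
    intro a ha
    have h1 : (QuotientGroup.mk a : Δ ⧸ B) ∈ (QuotientGroup.lift B τ hBker).ker := by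
      rw [MonoidHom.mem_ker, QuotientGroup.lift_mk]; exact ha
    rw [hker', Subgroup.mem_bot, QuotientGroup.eq_one_iff] at h1
    exact h1
  -- the squares are trivial
  have hSS : ∀ s : ↥S, ∃ t : ↥S, (t : Δ) * (t : Δ) = (s : Δ) := by
    rintro ⟨_, k, hk, rfl⟩
    rcases hAB hk with h | h
    · exact ⟨⟨k, h⟩, rfl⟩
    · refine ⟨⟨k * c, h⟩, ?_⟩
      show k * c * (k * c) = k * k
      calc k * c * (k * c) = k * (c * k) * c := by group
        _ = k * (k * c) * c := by rw [hccen k]
        _ = k * k * (c * c) := by group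
        _ = k * k := by rw [hcc, mul_one]
  have hsqinj : Function.Injective (fun t : ↥S => t * t) := by
    apply Finite.injective_iff_surjective.mpr
    intro s
    obtain ⟨t, ht⟩ := hSS s
    exact ⟨t, Subtype.ext ht⟩
  have hS1 : ∀ z ∈ S, z = 1 := by
    intro z hz
    by_contra hz1
    have hord : orderOf z ≠ 1 := fun h => hz1 (orderOf_eq_one_iff.mp h)
    have hpos : 0 < orderOf z := orderOf_pos z
    set p := (orderOf z).minFac with hp
    have hpp : p.Prime := Nat.minFac_prime hord
    have hpd : p ∣ orderOf z := Nat.minFac_dvd _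
    set w := z ^ (orderOf z / p) with hw
    have hwo : orderOf w = p := orderOf_pow_orderOf_div hpos.ne' hpd
    have hwS : w ∈ S := S.pow_mem hz _
    have hwp : w ^ p = 1 := by rw [← hwo]; exact pow_orderOf_eq_one w
    have hw1 : w = 1 := by
      by_cases h2 : p = 2
      · have h3 : w * w = 1 := by rw [← pow_two, ← h2]; exact hwp
        have h4 : (fun t : ↥S => t * t) ⟨w, hwS⟩ = (fun t : ↥S => t * t) 1 := by
          apply Subtype.ext
          show w * w = 1 * 1
          rw [h3, one_mul]
        exact congrArg Subtype.val (hsqinj h4)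
      · exact eq_one_of_exponent_reduction p (Hodd p hpp h2) τ hτ w (hSker hwS) hwp
    rw [hw1, orderOf_one] at hwo
    exact hpp.one_lt.ne hwo
  have hA : ∀ a ∈ τ.ker, a = 1 ∨ a = c := by
    intro a ha
    rcases hAB ha with h | h
    · exact Or.inl (hS1 a h)
    · right
      have h1 := hS1 _ h
      calc a = a * c * c⁻¹ := by group
        _ = c⁻¹ := by rw [h1, one_mul]
        _ = c := (eq_inv_of_mul_eq_one_left hcc).symm
  -- the homomorphism
  have hcc' : (⟨c, hcker⟩ : ↥τ.ker) * ⟨c, hcker⟩ = 1 := Subtype.ext hcc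
  refine ⟨twoHom ⟨c, hcker⟩ hcc', ?_⟩
  rintro ⟨a, ha⟩
  rcases hA a ha with h | h
  · exact ⟨1, by rw [map_one]; exact Subtype.ext h.symm⟩
  · exact ⟨Multiplicative.ofAdd 1, by rw [twoHom_apply_of_ne]; exact Subtype.ext h.symm⟩

end Cfsg.Agent.Lib.Helper57.M12Mult
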