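import Cfsg.Agent.Lib.Helper57.M12Mult.Data
import Cfsg.Agent.Lib.Helper57.M12Mult.P64
import Cfsg.Agent.Lib.Helper57.M12Mult.Reduce
import Cfsg.Agent.Lib.Helper7.StemInvol
import Cfsg.Agent.Lib.Helper7.StemTwo
import Cfsg.Agent.Lib.Helper7.StemThreeB

/-!
# The kernels of the finite stem extensions of `H12 ≅ M12` have order at most two
-/

set_option autoImplicit false

namespace Cfsg.Agent.Lib.Helper57.M12Mult
open Cfsg Cfsg.Agent.Lib.Helper7 Cfsg.Agent.Lib.Helper7.Tbl Cfsg.Agent.Lib.Helper7.Stem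
open Cfsg.Agent.Lib.Helper7.SylowPair Subgroup

/-! ### Relations in `H12` -/

theorem a_sq : a * a = 1 := eq_of_matchS (matchS_mul m_a m_a) matchS_one (by decide +kernel)
theorem b_sq : b * b = 1 := eq_of_matchS (matchS_mul m_b m_b) matchS_one (by decide +kernel)
theorem c_sq : c * c = 1 := eq_of_matchS (matchS_mul m_c m_c) matchS_one (by decide +kernel)
theorem y_sq : y * y = 1 := eq_of_matchS (matchS_mul m_y m_y) matchS_one (by decide +kernel)
theorem b_y : b * y = y * b :=
  eq_of_matchS (matchS_mul m_b m_y) (matchS_mul m_y m_b) (by decide +kernel)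

theorem conj_y : y * g_y = g_y * b :=
  eq_of_matchS (matchS_mul m_y m_g_y) (matchS_mul m_g_y m_b) (by decide +kernel)
theorem conj_by : b * y * g_by = g_by * b :=
  eq_of_matchS (matchS_mul (matchS_mul m_b m_y) m_g_by) (matchS_mul m_g_by m_b) (by decide +kernel)

theorem conj_e1 : e1 * g_e1 = g_e1 * a :=
  eq_of_matchS (matchS_mul m_e1 m_g_e1) (matchS_mul m_g_e1 m_a) (by decide +kernel)
theorem conj_e2 : e2 * g_e2 = g_e2 * a :=
  eq_of_matchS (matchS_mul m_e2 m_g_e2) (matchS_mul m_g_e2 m_a) (by decide +kernel)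
theorem conj_e3 : e3 * g_e3 = g_e3 * a :=
  eq_of_matchS (matchS_mul m_e3 m_g_e3) (matchS_mul m_g_e3 m_a) (by decide +kernel)
theorem conj_e21 : e2 * e1 * g_e21 = g_e21 * a :=
  eq_of_matchS (matchS_mul (matchS_mul m_e2 m_e1) m_g_e21) (matchS_mul m_g_e21 m_a)
    (by decide +kernel)
theorem conj_e31 : e3 * e1 * g_e31 = g_e31 * a :=
  eq_of_matchS (matchS_mul (matchS_mul m_e3 m_e1) m_g_e31) (matchS_mul m_g_e31 m_a)
    (by decide +kernel)
theorem conj_e23 : e2 * e3 * g_e23 = g_e23 * a :=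
  eq_of_matchS (matchS_mul (matchS_mul m_e2 m_e3) m_g_e23) (matchS_mul m_g_e23 m_a)
    (by decide +kernel)
theorem conj_e231 : e2 * e3 * e1 * g_e231 = g_e231 * a :=
  eq_of_matchS (matchS_mul (matchS_mul (matchS_mul m_e2 m_e3) m_e1) m_g_e231)
    (matchS_mul m_g_e231 m_a) (by decide +kernel)

theorem conj_c : c * g_c = g_c * b :=
  eq_of_matchS (matchS_mul m_c m_g_c) (matchS_mul m_g_c m_b) (by decide +kernel)
theorem conj_cb : c * b * g_cb = g_cb * b :=
  eq_of_matchS (matchS_mul (matchS_mul m_c m_b) m_g_cb) (matchS_mul m_g_cb m_b) (by decide +kernel)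
theorem conj_ca2 : c * a * (c * a) * g_ca2 = g_ca2 * a :=
  eq_of_matchS (matchS_mul (matchS_mul (matchS_mul m_c m_a) (matchS_mul m_c m_a)) m_g_ca2)
    (matchS_mul m_g_ca2 m_a) (by decide +kernel)
theorem conj_cr2 : c * (b * a * (b * a)) * g_cr2 = g_cr2 * a :=
  eq_of_matchS
    (matchS_mul (matchS_mul m_c (matchS_mul (matchS_mul m_b m_a) (matchS_mul m_b m_a))) m_g_cr2)
    (matchS_mul m_g_cr2 m_a) (by decide +kernel)

/-! ### The Sylow 2-subgroup -/

/-- A polycyclic generating sequence of the Sylow 2-subgroup `⟨a, b, c⟩`: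
`r⁴, r², r, d r d, d, b` with `r = b a`, `d = b c`. -/
noncomputable def gensP : List ↥H12 :=
  [b * a * (b * a) * (b * a * (b * a)), b * a * (b * a), b * a, b * c * (b * a) * (b * c), b * c, b]

/-- Their tables. -/
def gensPT : List (List ℕ) :=
  [compT (compT (compT bT aT) (compT bT aT)) (compT (compT bT aT) (compT bT aT)),
    compT (compT bT aT) (compT bT aT), compT bT aT,
    compT (compT (compT bT cT) (compT bT aT)) (compT bT cT), compT bT cT, bT]

theorem hmP : List.Forall₂ (MatchS (H := H12)) gensP gensPT :=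
  .cons (matchS_mul (matchS_mul (matchS_mul m_b m_a) (matchS_mul m_b m_a))
      (matchS_mul (matchS_mul m_b m_a) (matchS_mul m_b m_a)))
    (.cons (matchS_mul (matchS_mul m_b m_a) (matchS_mul m_b m_a))
      (.cons (matchS_mul m_b m_a)
        (.cons (matchS_mul (matchS_mul (matchS_mul m_b m_c) (matchS_mul m_b m_a)) (matchS_mul m_b m_c))
          (.cons (matchS_mul m_b m_c) (.cons m_b .nil)))))

theorem distinctP : distinctT gensPT (List.range 64) = true := by decide +kernel

theorem card_P_ge : 64 ≤ Nat.card ↥(closure ({a, b, c} : Set ↥H12)) := by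
  have ha : a ∈ closure ({a, b, c} : Set ↥H12) := subset_closure (by simp)
  have hb : b ∈ closure ({a, b, c} : Set ↥H12) := subset_closure (by simp)
  have hc : c ∈ closure ({a, b, c} : Set ↥H12) := subset_closure (by simp)
  have := card_ge_of_distinctT (closure ({a, b, c} : Set ↥H12)) hmP
    (by
      intro g hg
      simp only [gensP, List.mem_cons, List.not_mem_nil, or_false] at hg
      rcases hg with rfl | rfl | rfl | rfl | rfl | rfl
      · exact mul_mem (mul_mem (mul_mem hb ha) (mul_mem hb ha)) (mul_mem (mul_mem hb ha) (mul_mem hb ha))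
      · exact mul_mem (mul_mem hb ha) (mul_mem hb ha)
      · exact mul_mem hb ha
      · exact mul_mem (mul_mem (mul_mem hb hc) (mul_mem hb ha)) (mul_mem hb hc)
      · exact mul_mem hb hc
      · exact hb)
    (List.range 64) distinctP
  simpa using this

/-- The kernels of exponent 2, when some lifts of `b` and `y` commute. -/
theorem ker_two {Δ : Type} [Group Δ] [Finite Δ] (τ : Δ →* ↥H12) (hτ : IsStemExtension τ)
    (hexp : ∀ k ∈ τ.ker, k * k = 1)
    (hlift : ∃ x' y' : Δ, τ x' = b ∧ τ y' = y ∧ x' * y' = y' * x') : τ.ker = ⊥ := by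
  have hcen := hτ.2.1
  have hsurj := hτ.1
  obtain ⟨a', ha'⟩ := hsurj a
  obtain ⟨b', hb'⟩ := hsurj b
  obtain ⟨c', hc'⟩ := hsurj c
  have hbker : b' * b' ∈ τ.ker := by rw [MonoidHom.mem_ker, map_mul, hb', b_sq]
  have haker : a' * a' ∈ τ.ker := by rw [MonoidHom.mem_ker, map_mul, ha', a_sq]
  -- the class 2A
  have hkA : b' * b' = 1 := by
    obtain ⟨x', y', hx', hy', hcomm⟩ := hlift
    obtain ⟨gy, hgy⟩ := hsurj g_y
    obtain ⟨gby, hgby⟩ := hsurj g_by
    have h1 : x' * x' = b' * b' := sq_eq_of_map_eq τ hcen hexp (by rw [hx', hb'])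
    have h2 : y' * y' = b' * b' :=
      sq_eq_of_conj τ hcen hexp hbker (g := gy) (by rw [hy', hgy, hb', conj_y])
    have h3 : (x' * y') * (x' * y') = b' * b' :=
      sq_eq_of_conj τ hcen hexp hbker (g := gby) (by rw [map_mul, hx', hy', hgby, hb', conj_by])
    have h4 : (x' * y') * (x' * y') = (x' * x') * (y' * y') := by
      calc (x' * y') * (x' * y') = x' * (y' * x') * y' := by group
        _ = x' * (x' * y') * y' := by rw [hcomm]
        _ = (x' * x') * (y' * y') := by group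
    rw [h4, h1, h2, hexp _ hbker] at h3
    exact h3.symm
  -- the class 2B
  have hkB : a' * a' = 1 := by
    obtain ⟨f1, hf1⟩ := hsurj e1
    obtain ⟨f2, hf2⟩ := hsurj e2
    obtain ⟨f3, hf3⟩ := hsurj e3
    obtain ⟨g1, hg1⟩ := hsurj g_e1
    obtain ⟨g2, hg2⟩ := hsurj g_e2
    obtain ⟨g3, hg3⟩ := hsurj g_e3
    obtain ⟨g21, hg21⟩ := hsurj g_e21
    obtain ⟨g31, hg31⟩ := hsurj g_e31
    obtain ⟨g23, hg23⟩ := hsurj g_e23
    obtain ⟨g231, hg231⟩ := hsurj g_e231
    refine sq_eq_one_of_seven τ hcen haker (hexp _ haker) (a := f1) (b := f2) (c := f3)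
      ?_ ?_ ?_ ?_ ?_ ?_ ?_
    · exact sq_eq_of_conj τ hcen hexp haker (g := g1) (by rw [hf1, hg1, ha', conj_e1])
    · exact sq_eq_of_conj τ hcen hexp haker (g := g2) (by rw [hf2, hg2, ha', conj_e2])
    · exact sq_eq_of_conj τ hcen hexp haker (g := g3) (by rw [hf3, hg3, ha', conj_e3])
    · exact sq_eq_of_conj τ hcen hexp haker (g := g21)
        (by rw [map_mul, hf2, hf1, hg21, ha', conj_e21])
    · exact sq_eq_of_conj τ hcen hexp haker (g := g31)
        (by rw [map_mul, hf3, hf1, hg31, ha', conj_e31])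
    · exact sq_eq_of_conj τ hcen hexp haker (g := g23)
        (by rw [map_mul, hf2, hf3, hg23, ha', conj_e23])
    · exact sq_eq_of_conj τ hcen hexp haker (g := g231)
        (by rw [map_mul, map_mul, hf2, hf3, hf1, hg231, ha', conj_e231])
  -- the six relators
  obtain ⟨gc, hgc⟩ := hsurj g_c
  obtain ⟨gcb, hgcb⟩ := hsurj g_cb
  obtain ⟨gca2, hgca2⟩ := hsurj g_ca2
  obtain ⟨gcr2, hgcr2⟩ := hsurj g_cr2
  have r1 : c' * c' = 1 := by
    rw [sq_eq_of_conj τ hcen hexp hbker (x' := c') (g := gc) (by rw [hc', hgc, hb', conj_c]), hkA]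
  have r2 : (c' * b') * (c' * b') = 1 := by
    rw [sq_eq_of_conj τ hcen hexp hbker (x' := c' * b') (g := gcb)
      (by rw [map_mul, hc', hb', hgcb, conj_cb]), hkA]
  have r3 : ((c' * a') * (c' * a')) * ((c' * a') * (c' * a')) = 1 := by
    rw [sq_eq_of_conj τ hcen hexp haker (x' := (c' * a') * (c' * a')) (g := gca2)
      (by rw [map_mul, map_mul, hc', ha', hgca2, conj_ca2]), hkB]
  have r4 : (c' * ((b' * a') * (b' * a'))) * (c' * ((b' * a') * (b' * a'))) = 1 := by
    rw [sq_eq_of_conj τ hcen hexp haker (x' := c' * ((b' * a') * (b' * a'))) (g := gcr2)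
      (by rw [map_mul, map_mul, map_mul, hc', hb', ha', hgcr2, conj_cr2]), hkB]
  -- the complement
  set D := closure ({a', b', c'} : Set Δ) with hD
  have hcD : Nat.card ↥D ≤ 64 := card_closure_le_sixtyfour a' b' c' hkB hkA r1 r2 r3 r4
  have hmap : D.map τ = closure ({a, b, c} : Set ↥H12) := by
    rw [hD, MonoidHom.map_closure]
    congr 1
    ext z
    simp only [Set.mem_image, Set.mem_insert_iff, Set.mem_singleton_iff]
    constructor
    · rintro ⟨w, (rfl | rfl | rfl), rfl⟩
      · exact Or.inl ha'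
      · exact Or.inr (Or.inl hb')
      · exact Or.inr (Or.inr hc')
    · rintro (rfl | rfl | rfl)
      · exact ⟨a', Or.inl rfl, ha'⟩
      · exact ⟨b', Or.inr (Or.inl rfl), hb'⟩
      · exact ⟨c', Or.inr (Or.inr rfl), hc'⟩
  have hcP : 64 ≤ Nat.card ↥(D.map τ) := by rw [hmap]; exact card_P_ge
  have hDker : D ⊓ τ.ker = ⊥ := inf_ker_eq_bot_of_card_le τ D (hcD.trans hcP)
  have hcardP : Nat.card ↥(D.map τ) = 64 := le_antisymm ((card_map_le τ D).trans hcD) hcP
  have hidx : (D.map τ).index = 1485 := by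
    have := (D.map τ).card_mul_index
    rw [hcardP, card_H12] at this
    omega
  rw [eq_bot_iff]
  intro x hx
  rw [mem_bot]
  have h1 := pow_index_eq_one_of_compl τ hτ D hDker x hx
  rw [hidx] at h1
  have h2 := hexp x hx
  have : x ^ 1485 = x := by
    have e : 1485 = 2 * 742 + 1 := by norm_num
    rw [e, pow_succ, pow_mul, pow_two, h2, one_pow, one_mul]
  rw [← this]; exact h1

end Cfsg.Agent.Lib.Helper57.M12Mult
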